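import Groth.Agent.L05.Point.FibreGlobal
import Mathlib.AlgebraicGeometry.Morphisms.LocalFlatDescent
import Mathlib.AlgebraicGeometry.Morphisms.Smooth
import Mathlib.CategoryTheory.Comma.Over.Pullback

/-!
Smoothness of a morphism between smooth schemes over a base is fibrewise, and descends along any surjection of bases.
-/

set_option autoImplicit false
set_option linter.style.haveILetI false
set_option backward.isDefEq.respectTransparency.types false
universe u

open CategoryTheory CategoryTheory.Limits AlgebraicGeometry

noncomputable section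

namespace Groth.L15.SmoothFib

variable {S : Scheme.{u}} {X G : Over S} (φ : X ⟶ G)

/-- The base change of a morphism over the base as a pullback of the morphism. -/
theorem isPullback_map {S' : Scheme.{u}} (j : S' ⟶ S) :
    IsPullback (pullback.fst X.hom j) ((Over.pullback j).map φ).left φ.left (pullback.fst G.hom j) := by
  refine IsPullback.of_bot (v₂₁ := pullback.snd G.hom j) (v₂₂ := G.hom) (h₃₁ := j) ?_
    (pullback.lift_fst _ _ _).symm (IsPullback.of_hasPullback G.hom j)
  rw [Over.w φ, show ((Over.pullback j).map φ).left ≫ pullback.snd G.hom j = pullback.snd X.hom j from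
    pullback.lift_snd _ _ _]
  exact IsPullback.of_hasPullback X.hom j

theorem smooth_map_iff {S' : Scheme.{u}} (j : S' ⟶ S) :
    Smooth ((Over.pullback j).map φ).left ↔ Smooth (pullback.snd φ.left (pullback.fst G.hom j)) := by
  rw [← (isPullback_map φ j).isoPullback_hom_snd]
  exact (MorphismProperty.cancel_left_of_respectsIso @Smooth _ _)

/-- Smoothness of a morphism of smooth schemes is fibrewise. -/
theorem smooth_iff [Smooth X.hom] [Smooth G.hom] :
    Smooth φ.left ↔ ∀ s : S, Smooth ((Over.pullback (S.fromSpecResidueField s)).map φ).left :=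
  (Groth.L05.Point.smooth_iff_fibres G.hom X.hom φ.left (Over.w φ)).trans
    (forall_congr' fun s => (smooth_map_iff φ (S.fromSpecResidueField s)).symm)

/-- Smoothness of a morphism of smooth schemes descends along any surjection. -/
theorem smooth_of_surjective [Smooth X.hom] [Smooth G.hom] {S' : Scheme.{u}} (g : S' ⟶ S) [Surjective g]
    (h : Smooth ((Over.pullback g).map φ).left) : Smooth φ.left := by
  refine (smooth_iff φ).2 fun s => (smooth_map_iff φ _).2 ?_
  obtain ⟨s', rfl⟩ := g.surjective s
  let κ := S.fromSpecResidueField (g s')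
  let a := pullback.fst G.hom κ
  let θ := Spec.map (g.residueFieldMap s')
  haveI : Surjective θ := ⟨fun x => ⟨IsLocalRing.closedPoint _,
    Subsingleton.elim (α := PrimeSpectrum (S.residueField (g s'))) _ _⟩⟩
  haveI : QuasiCompact θ := quasiCompact_of_compactSpace _
  let θ' := pullback.fst (pullback.snd G.hom κ) θ
  let ψ : pullback (pullback.snd G.hom κ) θ ⟶ pullback G.hom g :=
    pullback.lift (θ' ≫ a) (pullback.snd _ _ ≫ S'.fromSpecResidueField s') (by
      rw [Category.assoc, Category.assoc, pullback.condition, ← Category.assoc θ', pullback.condition,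
        Category.assoc, ← g.SpecMap_residueFieldMap_fromSpecResidueField s'])
  haveI := (smooth_map_iff φ g).1 h
  have h1 : Smooth (pullback.snd φ.left (ψ ≫ pullback.fst G.hom g)) := by
    rw [(Iso.eq_inv_comp _).2 (pullbackLeftPullbackSndIso_hom_snd φ.left (pullback.fst G.hom g) ψ)]
    infer_instance
  rw [show ψ ≫ pullback.fst G.hom g = θ' ≫ a from pullback.lift_fst _ _ _] at h1
  have h2 : Smooth (pullback.snd (pullback.snd φ.left a) θ') := by
    rw [← pullbackLeftPullbackSndIso_hom_snd φ.left a θ']
    infer_instance
  exact MorphismProperty.of_pullback_snd_of_descendsAlong (P := @Smooth) (Q := @Surjective ⊓ @Flat ⊓ @QuasiCompact)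
    ⟨⟨MorphismProperty.pullback_fst (P := @Surjective) _ _ ‹_›, MorphismProperty.pullback_fst (P := @Flat) _ _ inferInstance⟩,
      MorphismProperty.pullback_fst (P := @QuasiCompact) _ _ ‹_›⟩ h2

end Groth.L15.SmoothFib

end
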